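import Groth.Agent.Lib.ExchangeFP29.Algebra
import Groth.Agent.H23.HilbStrata
import Groth.Agent.H20.FittingEtale
import Groth.Agent.H25.Fitting
import Groth.Agent.Lib.FlatCx.RightExact

/-!
# The ideal cutting out the locus of maximal rank of the zeroth cohomology of an exchange complex
-/

set_option autoImplicit false
set_option linter.style.haveILetI false
universe u

open CategoryTheory CategoryTheory.Limits
open scoped TensorProduct
open Groth.Agent Groth.Agent.Lib Groth.Agent.Lib.FlatCx.Basic Groth.Agent.Lib.FlatCx.Rank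
open Groth.Agent.Lib.ExchangeFP29

namespace Groth.Agent.H54.RankLocus.Alg

section Retract

variable {A : Type u} [CommRing A] (B : Type u) [CommRing B] [Algebra A B]
  {M N : Type u} [AddCommGroup M] [Module A M] [AddCommGroup N] [Module A N]

theorem flat_baseChange_fst [Module.Flat B (B ⊗[A] (M × N))] : Module.Flat B (B ⊗[A] M) := by
  refine Module.Flat.of_retract ((LinearMap.inl A M N).baseChange B) ((LinearMap.fst A M N).baseChange B) ?_
  rw [← LinearMap.baseChange_comp, LinearMap.fst_comp_inl, LinearMap.baseChange_id]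

theorem flat_baseChange_snd [Module.Flat B (B ⊗[A] (M × N))] : Module.Flat B (B ⊗[A] N) := by
  refine Module.Flat.of_retract ((LinearMap.inr A M N).baseChange B) ((LinearMap.snd A M N).baseChange B) ?_
  rw [← LinearMap.baseChange_comp, LinearMap.snd_comp_inr, LinearMap.baseChange_id]

theorem flat_baseChange_prod [Module.Flat B (B ⊗[A] M)] [Module.Flat B (B ⊗[A] N)] :
    Module.Flat B (B ⊗[A] (M × N)) :=
  haveI : Module.Flat B ((B ⊗[A] M) × (B ⊗[A] N)) :=
    FlatCx.RightExact.flat_extension (LinearMap.inl B _ _) (LinearMap.snd B _ _) LinearMap.inl_injective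
      LinearMap.snd_surjective Function.Exact.inl_snd
  Module.Flat.of_linearEquiv (TensorProduct.prodRight A B B M N)

end Retract

variable {A : Type u} [CommRing A] {P : ChainComplex (ModuleCat.{u} A) ℤ}

/-- A finitely presented module whose rank records the zeroth fibre homology and whose flatness
records that of the first cokernel. -/
theorem exists_module (hP : Algebra.IsGood P) :
    ∃ (M : Type u) (_ : AddCommGroup M) (_ : Module A M) (_ : Module.FinitePresentation A M) (N : ℕ),
      (∀ x, fdim (A := A) M x = CohIII.dRank P (-((0 : ℕ) : ℤ)) x + N) ∧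
      ∀ (B : Type u) [CommRing B] [Algebra A B],
        Module.Flat B (B ⊗[A] Q P (-((1 : ℕ) : ℤ))) ↔ Module.Flat B (B ⊗[A] M) := by
  let p : ℤ := -((0 : ℕ) : ℤ)
  let q : ℤ := -((1 : ℕ) : ℤ)
  haveI := hP.finitePresentation_Q p
  haveI := hP.finitePresentation_Q q
  haveI := hP.finite q
  haveI := (hP.fin q).2
  haveI : Module.Flat A (Q P p) := hP.flat_Q_nonneg p (by simp [p])
  obtain ⟨N, π, hπ⟩ := Module.Finite.exists_fin' A (P.X q)
  obtain ⟨e⟩ := _root_.ZarCoh.Exchange.Free.exists_equiv_ker_prod (M := Fin N → A) π hπ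
  let r : (Fin N → A) →ₗ[A] LinearMap.ker π := LinearMap.fst A _ _ ∘ₗ e.toLinearMap
  haveI : Module.Finite A (LinearMap.ker π) := Module.Finite.of_surjective r (Prod.fst_surjective.comp e.surjective)
  haveI : Module.Projective A (LinearMap.ker π) :=
    Module.Projective.of_split (e.symm.toLinearMap ∘ₗ LinearMap.inl A _ _) r (by ext b; simp [r])
  haveI : Module.FinitePresentation A (LinearMap.ker π) := Module.finitePresentation_of_projective A _
  refine ⟨(Q P p × Q P q) × LinearMap.ker π, inferInstance, inferInstance, inferInstance, N, fun x => ?_, ?_⟩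
  · have h1 := hP.dRank_add p q (by simp [p, q]) x
    have h2 : fdim (A := A) (Fin N → A) x = fdim (A := A) (LinearMap.ker π) x + fdim (A := A) (P.X q) x :=
      (congrFun (fdim_congr (A := A) (Fin N → A) e) x).trans (_root_.ZarCoh.Exchange.Free.fdim_prod _ _ x)
    haveI : Nontrivial A :=
      ⟨0, 1, fun h => x.isPrime.ne_top ((Ideal.eq_top_iff_one _).2 (h ▸ x.asIdeal.zero_mem))⟩
    have h3 : fdim (A := A) (Fin N → A) x = N := by
      show Module.finrank x.asIdeal.ResidueField (x.asIdeal.ResidueField ⊗[A] (Fin N → A)) = N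
      rw [Module.finrank_baseChange, Module.finrank_fin_fun]
    rw [_root_.ZarCoh.Exchange.Free.fdim_prod, _root_.ZarCoh.Exchange.Free.fdim_prod]
    show _ = CohIII.dRank P p x + N
    omega
  · intro B _ _
    constructor
    · intro _
      haveI := flat_baseChange_prod (A := A) B (M := Q P p) (N := Q P q)
      exact flat_baseChange_prod (A := A) B
    · intro _
      haveI := flat_baseChange_fst (A := A) B (M := Q P p × Q P q) (N := LinearMap.ker π)
      exact flat_baseChange_snd (A := A) B (M := Q P p)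

/-- The locus of rank exactly `r` is cut out by a finitely generated ideal where the rank is at most
`r`. -/
theorem exists_ideal (hP : Algebra.IsGood P) (r : ℕ) :
    ∃ a b : Ideal A, a.FG ∧ b.FG ∧ (∀ x : PrimeSpectrum A, b ≤ x.asIdeal ↔ r < CohIII.dRank P (-((0 : ℕ) : ℤ)) x) ∧
      ((∀ x, CohIII.dRank P (-((0 : ℕ) : ℤ)) x ≤ r) → ∀ (B : Type u) [CommRing B] [Algebra A B],
        (Module.Flat B (B ⊗[A] Q P (-((1 : ℕ) : ℤ))) ∧
            ∀ y : PrimeSpectrum B, CohIII.dRank P (-((0 : ℕ) : ℤ)) (PrimeSpectrum.comap (algebraMap A B) y) = r) ↔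
          a.map (algebraMap A B) = ⊥) := by
  obtain ⟨M, _, _, _, N, hd, hf⟩ := exists_module hP
  classical
  let a : Ideal A := if r + N = 0 then ⊥ else Fitt.ideal A M (r + N - 1)
  have hb : ∀ x : PrimeSpectrum A, Fitt.ideal A M (r + N) ≤ x.asIdeal ↔
      r < CohIII.dRank P (-((0 : ℕ) : ℤ)) x := fun x => by
    have h := (S6894.result M (r + N) x.asIdeal).1
    change _ ↔ fdim (A := A) M x ≤ r + N at h
    rw [hd] at h
    rw [← not_iff_not, h, not_lt]
    omega
  refine ⟨a, Fitt.ideal A M (r + N), ?_, H20.FittingEtale.ideal_fg _, hb, ?_⟩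
  · by_cases h : r + N = 0
    · simp only [a, if_pos h]; exact Submodule.fg_bot
    · simp only [a, if_neg h]; exact H20.FittingEtale.ideal_fg _
  intro hle B _ _
  have htop : Fitt.ideal A M (r + N) = ⊤ := by
    by_contra hne
    obtain ⟨m, hm, hle'⟩ := Ideal.exists_le_maximal _ hne
    exact absurd ((hb ⟨m, hm.isPrime⟩).1 hle') (not_lt.2 (hle _))
  have hdim : ∀ y : PrimeSpectrum B,
      fdim (A := B) (B ⊗[A] M) y = CohIII.dRank P (-((0 : ℕ) : ℤ)) (PrimeSpectrum.comap (algebraMap A B) y) + N :=
    fun y => (fdim_baseChange M B y).trans (hd _)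
  constructor
  · rintro ⟨hfl, hr⟩
    haveI := (hf B).1 hfl
    haveI : Module.Projective B (B ⊗[A] M) := Module.Flat.projective_of_finitePresentation
    obtain ⟨h0, -⟩ := H23.HilbStrata.fitt_of_projective (A := B) (B ⊗[A] M) (r + N) fun y => by
      haveI : Module.Flat B (B ⊗[A] M) := Module.Flat.of_projective
      rw [← fdim_eq_rankAtStalk (B ⊗[A] M) y, hdim, hr]
    by_cases h : r + N = 0
    · simp only [a, if_pos h, Ideal.map_bot]
    · simp only [a, if_neg h, ← H25.Fitting.ideal_baseChange B]
      exact h0 _ (by omega)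
  · intro ha
    obtain ⟨hp, hrk⟩ := H23.HilbStrata.projective_of_fitt (B ⊗[A] M) (r + N) (fun k hk => by
        have h : r + N ≠ 0 := by omega
        simp only [a, if_neg h, ← H25.Fitting.ideal_baseChange B] at ha
        exact le_bot_iff.1 ((H23.HilbStrata.fitt_mono _ (by omega : k ≤ r + N - 1)).trans ha.le))
      (by rw [H25.Fitting.ideal_baseChange B, htop, Ideal.map_top])
    haveI := hp
    refine ⟨(hf B).2 Module.Flat.of_projective, fun y => ?_⟩
    have h' := hrk y
    haveI : Module.Flat B (B ⊗[A] M) := Module.Flat.of_projective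
    rw [← fdim_eq_rankAtStalk (B ⊗[A] M) y, hdim] at h' 
    omega

end Groth.Agent.H54.RankLocus.Alg
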