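import Groth.Agent.Lib.ExchangeFP29.Epi
import Groth.Agent.Lib.ExchangeFP29.Locus
import Groth.Agent.Lib.ExchangeFP29.FieldPoint
import Groth.Agent.H54.RankLocus.Alg

/-!
# The rank locus on a chart
-/

set_option autoImplicit false
set_option linter.style.haveILetI false
set_option maxHeartbeats 1000000
universe u

open CategoryTheory CategoryTheory.Limits AlgebraicGeometry TopologicalSpace
open scoped TensorProduct
open Groth.Agent Groth.Agent.Lib Groth.Agent.Lib.FlatCx.Basic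
open Groth.Agent.Lib.ExchangeFP29
open _root_.ZarCoh.Exchange

namespace Groth.Agent.H54.RankLocus.Chart

variable {X S : Scheme.{u}} (f : X ⟶ S) (F : X.Modules)

/-- The condition defining the locus. -/
def Cond (r : ℕ) {T : Scheme.{u}} (u : T ⟶ S) (t : T) : Prop :=
  Main.FibSurj (pullback.snd f u) ((Scheme.Modules.pullback (pullback.fst f u)).obj F) t ∧
    CohIII.fiberRank f F 0 (u t) = r

theorem exists_pt {T : Scheme.{u}} {V : T.Opens} [IsAffine (V : Scheme.{u})] {t : T} (ht : t ∈ V) :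
    ∃ y : PrimeSpectrum (Local.AV V), LocalRep.k V y = t := ⟨Main.pt V ht, Main.k_pt V ht⟩

/-- A point of a chart upstairs lies over the corresponding point downstairs. -/
theorem map_k {T : Scheme.{u}} (u : T ⟶ S) (V : S.Opens) [IsAffine (V : Scheme.{u})]
    (V' : T.Opens) [IsAffine (V' : Scheme.{u})] (e : V'.ι ''ᵁ ⊤ ≤ u ⁻¹ᵁ (V.ι ''ᵁ ⊤))
    (y : PrimeSpectrum (Local.AV V')) :
    u (LocalRep.k V' y) =
      LocalRep.k V (PrimeSpectrum.comap (u.appLE (V.ι ''ᵁ ⊤) (V'.ι ''ᵁ ⊤) e).hom y) := by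
  have h : Spec.map (u.appLE (V.ι ''ᵁ ⊤) (V'.ι ''ᵁ ⊤) e) ≫ LocalRep.k V = LocalRep.k V' ≫ u := by
    show Spec.map _ ≫ (V : Scheme.{u}).isoSpec.inv ≫ V.ι = ((V' : Scheme.{u}).isoSpec.inv ≫ V'.ι) ≫ u
    rw [Category.assoc, ← Scheme.Hom.resLE_comp_ι u (CohDelta.BC.Affine.hle u e),
      ← CohDelta.BC.Affine.appTop_resLE u e]
    rw [← Category.assoc, ← Category.assoc, Scheme.isoSpec_inv_naturality]
  exact (congrArg (fun m : Spec (CommRingCat.of (Local.AV V')) ⟶ S => m y) h).symm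

variable [IsProper f] [LocallyOfFinitePresentation f] [F.IsQuasicoherent]
  (hF : CohB1.IsFP F) (hfl : FlatMod.IsFlatOver f F)

include hF hfl

/-- On a chart, surjectivity onto all fibres is flatness of the first cokernel. -/
theorem fibSurj_iff_flat {X' T : Scheme.{u}} (u : T ⟶ S) (g' : X' ⟶ X) (f' : X' ⟶ T)
    (h : IsPullback g' f' f u) (V : S.Opens) [IsAffine (V : Scheme.{u})]
    {P : ChainComplex (ModuleCat.{u} (Local.AV V)) ℤ} (hP : Algebra.IsGood P)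
    (e₀ : CohIII.TFun P (-((0 : ℕ) : ℤ)) ⋙
        forget₂ (ModuleCat.{u} (Local.AV V)) AddCommGrpCat.{u} ≅
      CohIII.tensorAFunctor (Local.AV V) (Local.MV f V F) ⋙ CohIII.HAb (Local.XV f V) 0)
    (V' : T.Opens) [IsAffine (V' : Scheme.{u})] (e : V'.ι ''ᵁ ⊤ ≤ u ⁻¹ᵁ (V.ι ''ᵁ ⊤)) :
    letI : Algebra (Local.AV V) (Local.AV V') :=
      (u.appLE (V.ι ''ᵁ ⊤) (V'.ι ''ᵁ ⊤) e).hom.toAlgebra
    (∀ t ∈ V', Main.FibSurj f' ((Scheme.Modules.pullback g').obj F) t) ↔
      Module.Flat (Local.AV V') (Local.AV V' ⊗[Local.AV V] Q P (-((1 : ℕ) : ℤ))) := by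
  letI : Algebra (Local.AV V) (Local.AV V') :=
    (u.appLE (V.ι ''ᵁ ⊤) (V'.ι ''ᵁ ⊤) e).hom.toAlgebra
  haveI : IsProper f' := MorphismProperty.of_isPullback h ‹_›
  haveI : LocallyOfFinitePresentation f' := MorphismProperty.of_isPullback h ‹_›
  let G := (Scheme.Modules.pullback g').obj F
  have hG : CohB1.IsFP G := H47.FlatLimit.isFP_pullback g' F hF
  have hGfl : FlatMod.IsFlatOver f' G := fun x =>
    Flat55.FlatOverAt.isFlatOverAt_baseChange f f' g' u h F x (hfl _)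
  obtain ⟨hsq, -, -⟩ := BC0Glob.chart_spec f u g' f' h F V V' e
  let hU := CohDelta.BC.Main.le_preimage f u f' g' h.w V V' e
  let jX := CohDelta.BC.Beta.jj g' hU
  let ω := (CohDelta.Units.pon g' jX (Scheme.Hom.resLE_comp_ι g' hU)).app F
  haveI : IsIso ω := CohDelta.BC.Main.isIso_pon g' hU F
  obtain ⟨bc⟩ := BaseChange.nonempty_baseChange_iso hsq (Local.MV f V F) 0
  let e' : CohIII.TFun (FlatCx.BaseChange.bc P (Local.AV V')) (-((0 : ℕ) : ℤ)) ⋙
        forget₂ (ModuleCat.{u} (Local.AV V')) AddCommGrpCat.{u} ≅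
      CohIII.tensorAFunctor (Local.AV V') (Local.MV f' V' G) ⋙ CohIII.HAb (Local.XV f' V') 0 :=
    (ExtScalars.iso (ExtScalars.isBCCx_bcCx (Local.AV V') P) (-((0 : ℕ) : ℤ))).symm ≪≫
      Functor.isoWhiskerLeft (ExtScalars.res (A := Local.AV V) (B := Local.AV V')) e₀ ≪≫
      bc.symm ≪≫ Functor.isoWhiskerRight (Rep.tensorCongr (Local.AV V') (asIso ω)) _
  haveI := hP.flat (-((1 : ℕ) : ℤ))
  refine Iff.trans ?_ ((Proper.preservesEpi_iff e').trans
    (FlatCx.BaseChange.preservesEpi_bc_iff P (Local.AV V') _ (-((1 : ℕ) : ℤ)) (by omega)))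
  constructor
  · intro hs
    obtain ⟨P', hP', he', -, hq'⟩ := Main.exists_of_fibSurj f' G hG hGfl V' hs
    obtain ⟨e''⟩ := he' 0
    haveI := hP'.flat (-((1 : ℕ) : ℤ))
    exact (Proper.preservesEpi_iff e'').2
      ((FlatCx.Basic.preservesEpi_iff P' _ (-((1 : ℕ) : ℤ)) (by omega)).2 hq')
  · intro hex t ht
    haveI := BC0Glob.isIso_bc0 f' (T.fromSpecResidueField t) (f'.fiberι t)
      (f'.fiberToSpecResidueField t) (IsPullback.of_hasPullback f' (T.fromSpecResidueField t)) G hGfl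
      fun z => ⟨V', inferInstance, by rwa [Scheme.fromSpecResidueField_apply], hex⟩
    exact Main.fibSurj_of_epi f' G t (inferInstance)

/-- The ideal of the locus on a chart. -/
theorem exists_ideal (r : ℕ) (V : S.Opens) [IsAffine (V : Scheme.{u})]
    (hV : ∀ s ∈ V, CohIII.fiberRank f F 0 s ≤ r) :
    ∃ a : Ideal (Local.AV V), a.FG ∧ ∀ {T : Scheme.{u}} (u : T ⟶ S) (V' : T.Opens)
      [IsAffine (V' : Scheme.{u})] (e : V'.ι ''ᵁ ⊤ ≤ u ⁻¹ᵁ (V.ι ''ᵁ ⊤)),
      a.map (u.appLE (V.ι ''ᵁ ⊤) (V'.ι ''ᵁ ⊤) e).hom = ⊥ ↔ ∀ t ∈ V', Cond f F r u t := by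
  obtain ⟨P, hP, hh⟩ := Rep.exists_local f F hF hfl V
  obtain ⟨⟨e₀⟩, hr⟩ := hh 0
  obtain ⟨a, -, ha, -, -, hiff⟩ := Alg.exists_ideal hP r
  refine ⟨a, ha, fun {T} u V' _ e => ?_⟩
  letI : Algebra (Local.AV V) (Local.AV V') :=
    (u.appLE (V.ι ''ᵁ ⊤) (V'.ι ''ᵁ ⊤) e).hom.toAlgebra
  refine (hiff (fun x => (hr x).symm.trans_le (hV _ (Main.k_mem V x))) (Local.AV V')).symm.trans ?_
  rw [← fibSurj_iff_flat f F hF hfl u _ _ (IsPullback.of_hasPullback f u) V hP e₀ V' e]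
  constructor
  · rintro ⟨h1, h2⟩ t ht
    refine ⟨h1 t ht, ?_⟩
    obtain ⟨y, rfl⟩ := exists_pt ht
    rw [map_k u V V' e y, hr]
    exact h2 y
  · refine fun h => ⟨fun t ht => (h t ht).1, fun y => ?_⟩
    rw [← hr]
    exact (congrArg (CohIII.fiberRank f F 0) (map_k u V V' e y)).symm.trans
      (h _ (Main.k_mem V' y)).2

/-- The locus where the rank is too large is cut out on a chart by a finitely generated ideal. -/
theorem isCompact_lt (r : ℕ) (V : S.Opens) [IsAffine (V : Scheme.{u})] :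
    IsCompact ((V : Set S) ∩ {s | CohIII.fiberRank f F 0 s < r + 1}) := by
  obtain ⟨P, hP, hh⟩ := Rep.exists_local f F hF hfl V
  obtain ⟨-, hr⟩ := hh 0
  obtain ⟨-, b, -, hb, hbr, -⟩ := Alg.exists_ideal hP r
  have himg : LocalRep.k V '' ((PrimeSpectrum.zeroLocus (b : Set (Local.AV V)))ᶜ) =
      (V : Set S) ∩ {s | CohIII.fiberRank f F 0 s < r + 1} := by
    ext s
    constructor
    · rintro ⟨x, hx, rfl⟩
      refine ⟨Main.k_mem V x, ?_⟩
      have : ¬ r < CohIII.dRank P (-((0 : ℕ) : ℤ)) x := fun h => hx ((hbr x).2 h)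
      show CohIII.fiberRank f F 0 (LocalRep.k V x) < r + 1
      rw [hr x]; omega
    · rintro ⟨hs, hlt⟩
      obtain ⟨x, rfl⟩ := exists_pt hs
      refine ⟨x, fun h => ?_, rfl⟩
      have := (hbr x).1 h
      have hlt' : CohIII.fiberRank f F 0 (LocalRep.k V x) < r + 1 := hlt
      rw [hr x] at hlt'; omega
  rw [← himg]
  exact (PrimeSpectrum.isCompact_isOpen_iff_ideal.2 ⟨b, hb, rfl⟩).1.image (LocalRep.k V).continuous

/-- The rank over a field-valued point, and surjectivity to its fibre. -/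
theorem cond_fromSpecResidueField (r : ℕ) (s : S) (hs : CohIII.fiberRank f F 0 s = r)
    (t : Spec (S.residueField s)) : Cond f F r (S.fromSpecResidueField s) t := by
  let σ := S.fromSpecResidueField s
  refine ⟨?_, by rw [Scheme.fromSpecResidueField_apply]; exact hs⟩
  obtain ⟨V, hV, hsV, -⟩ := exists_isAffineOpen_mem_and_subset (U := ⊤) (x := s) trivial
  haveI : IsAffine (V : Scheme.{u}) := hV
  obtain ⟨P, hP, hh⟩ := Rep.exists_local f F hF hfl V
  obtain ⟨⟨e₀⟩, -⟩ := hh 0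
  let O : (Spec (S.residueField s)).Opens := ⊤
  haveI : IsAffine (O : Scheme.{u}) := isAffineOpen_top _
  have e : O.ι ''ᵁ ⊤ ≤ σ ⁻¹ᵁ (V.ι ''ᵁ ⊤) := by
    rw [O.ι_image_top, V.ι_image_top]
    intro z _
    show σ z ∈ V
    rwa [Scheme.fromSpecResidueField_apply]
  refine (fibSurj_iff_flat f F hF hfl σ _ _ (IsPullback.of_hasPullback f σ) V hP e₀ O e).2 ?_ t trivial
  haveI hO : IsField (Local.AV O) := by
    haveI : IsIso O.ι := (Scheme.topIso _).isIso_hom
    haveI : IsIso (O.ι.appTop) :=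
      (Scheme.Γ.mapIso (Scheme.topIso (Spec (S.residueField s))).op).isIso_hom
    exact MulEquiv.isField (B := S.residueField s) (Field.toIsField _)
      ((Scheme.ΓSpecIso (S.residueField s)).symm ≪≫ asIso O.ι.appTop).symm.commRingCatIsoToRingEquiv.toMulEquiv
  letI := hO.toField
  exact inferInstance

/-- Surjectivity to all fibres does not depend on the chosen fibre product. -/
theorem fibSurj_congr {X' X'' T : Scheme.{u}} (u : T ⟶ S) {g' : X' ⟶ X} {f' : X' ⟶ T}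
    (h : IsPullback g' f' f u) {g'' : X'' ⟶ X} {f'' : X'' ⟶ T} (h' : IsPullback g'' f'' f u)
    (hs : ∀ t, Main.FibSurj f' ((Scheme.Modules.pullback g').obj F) t) (t : T) :
    Main.FibSurj f'' ((Scheme.Modules.pullback g'').obj F) t := by
  obtain ⟨V, hV, htV, -⟩ := exists_isAffineOpen_mem_and_subset (U := ⊤) (x := u t) trivial
  haveI : IsAffine (V : Scheme.{u}) := hV
  obtain ⟨V', hV', htV', hle⟩ := exists_isAffineOpen_mem_and_subset (U := u ⁻¹ᵁ V) (x := t) htV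
  haveI : IsAffine (V' : Scheme.{u}) := hV'
  have e : V'.ι ''ᵁ ⊤ ≤ u ⁻¹ᵁ (V.ι ''ᵁ ⊤) := by rw [V'.ι_image_top, V.ι_image_top]; exact hle
  obtain ⟨P, hP, hh⟩ := Rep.exists_local f F hF hfl V
  obtain ⟨⟨e₀⟩, -⟩ := hh 0
  exact (fibSurj_iff_flat f F hF hfl u g'' f'' h' V hP e₀ V' e).2
    ((fibSurj_iff_flat f F hF hfl u g' f' h V hP e₀ V' e).1 fun y _ => hs y) t htV'

end Groth.Agent.H54.RankLocus.Chart
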