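import Groth.Agent.H54.RankLocus.Chart
import Groth.Agent.Lib.HilbD.Glue
import Groth.Agent.Lib.HilbD.Basic
import Groth.Agent.Lib.FreeRes.Locus
import Groth.Agent.Lib.Lim.IdealFP

/-!
# The rank locus
-/

set_option autoImplicit false
set_option linter.style.haveILetI false
set_option maxHeartbeats 1000000
universe u

open CategoryTheory CategoryTheory.Limits AlgebraicGeometry TopologicalSpace
open Groth.Agent Groth.Agent.Lib Groth.Agent.Lib.HilbD
open Groth.Agent.Lib.ExchangeFP29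
open _root_.ZarCoh.Exchange

namespace Groth.Agent.H54.RankLocus.Global

/-- Chart data on an affine open, with the images of the top opens removed. -/
theorem ideal_congr {S : Scheme.{u}} (Q : ∀ (T : Scheme.{u}), (T ⟶ S) → T → Prop) {O O' : S.Opens}
    (hO : O = O') {a : Ideal Γ(S, O)} (ha : a.FG)
    (h : ∀ {T : Scheme.{u}} (u : T ⟶ S) (V' : T.Opens) [IsAffine (V' : Scheme.{u})]
      (e : V'.ι ''ᵁ ⊤ ≤ u ⁻¹ᵁ O),
      a.map (u.appLE O (V'.ι ''ᵁ ⊤) e).hom = ⊥ ↔ ∀ t ∈ V', Q T u t) :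
    ∃ a' : Ideal Γ(S, O'), a'.FG ∧ ∀ {T : Scheme.{u}} (u : T ⟶ S) (V' : T.Opens),
      IsAffineOpen V' → ∀ e : V' ≤ u ⁻¹ᵁ O',
      a'.map (u.appLE O' V' e).hom = ⊥ ↔ ∀ t ∈ V', Q T u t := by
  subst hO
  refine ⟨a, ha, fun {T} u V' hV' e => ?_⟩
  haveI : IsAffine (V' : Scheme.{u}) := hV'
  have key : ∀ (O₁ : T.Opens) (e₁ : O₁ ≤ u ⁻¹ᵁ O), O₁ = V' →
      (a.map (u.appLE O O₁ e₁).hom = ⊥ ↔ a.map (u.appLE O V' e).hom = ⊥) := by
    intro O₁ e₁ h₁; subst h₁; rfl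
  exact (key _ (V'.ι_image_top.le.trans e) V'.ι_image_top).symm.trans (h u V' _)

section Sheaf

variable {S : Scheme.{u}} {V : S.Opens} (hV : IsAffineOpen V) (a : Ideal Γ(S, V))

/-- The ideal sheaf of an ideal of the sections over an affine open. -/
noncomputable def sheaf : (V : Scheme.{u}).IdealSheafData :=
  .ofIdealTop (a.map (V.ι.appLE V ⊤ (fun x _ => x.2)).hom)

include hV in
theorem comap_sheaf_iff {U : Scheme.{u}} (k : U ⟶ V) :
    (sheaf a).comap k = ⊥ ↔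
      a.map ((k ≫ V.ι).appLE V ⊤ (fun x _ => (k x).2)).hom = ⊥ := by
  haveI : IsAffine (V : Scheme.{u}) := hV
  rw [← le_bot_iff, ← Scheme.IdealSheafData.le_map_iff_comap_le, Scheme.IdealSheafData.map_bot,
    Scheme.ker_of_isAffine]
  have hgal : ∀ I : Ideal Γ((V : Scheme.{u}), ⊤), sheaf a ≤ .ofIdealTop I ↔
      a.map (V.ι.appLE V ⊤ (fun x _ => x.2)).hom ≤ I := fun I => by
    have e : ∀ J : Ideal Γ((V : Scheme.{u}), ⊤),
        (Scheme.IdealSheafData.ofIdealTop J).ideal ⟨⊤, isAffineOpen_top _⟩ = J :=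
      fun J => Scheme.IdealSheafData.equivOfIsAffine.apply_symm_apply J
    refine ⟨fun h => ?_, fun h => Scheme.IdealSheafData.le_of_isAffine ?_⟩
    · exact (e _).symm.trans_le ((h ⟨⊤, isAffineOpen_top _⟩).trans (e I).le)
    · exact (e _).trans_le (h.trans (e I).ge)
  rw [hgal, Ideal.map_le_iff_le_comap, RingHom.comap_ker, ← CommRingCat.hom_comp,
    Ideal.map_eq_bot_iff_le_ker]
  have : (k ≫ V.ι).appLE V ⊤ (fun x _ => (k x).2) =
      V.ι.appLE V ⊤ (fun x _ => x.2) ≫ k.appTop :=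
    ((Scheme.Hom.appLE_comp_appLE k V.ι V ⊤ ⊤ (fun x _ => x.2) (fun _ _ => trivial)).symm).trans
      (congrArg (V.ι.appLE V ⊤ (fun x _ => x.2) ≫ ·) (k.app_eq_appLE).symm)
  rw [this]

include hV in
theorem isFG_sheaf (ha : a.FG) : Lim.IdealExt.IsFG (sheaf a) := fun U => by
  haveI : IsAffine (V : Scheme.{u}) := hV
  show (Ideal.map _ (a.map _)).FG
  exact (ha.map _).map _

end Sheaf

theorem comap_opens_appLE {T S : Scheme.{u}} (u : T ⟶ S) {V : S.Opens} {V' : T.Opens}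
    (e : V' ≤ u ⁻¹ᵁ V) (a : Ideal Γ(S, V)) :
    a.map ((V'.ι ≫ u).appLE V ⊤ (fun x _ => e x.2)).hom = ⊥ ↔
      a.map (u.appLE V V' e).hom = ⊥ := by
  have h1 : (V'.ι ≫ u).appLE V ⊤ (fun x _ => e x.2) =
      u.appLE V V' e ≫ V'.ι.appLE V' ⊤ (fun x _ => x.2) :=
    (Scheme.Hom.appLE_comp_appLE _ _ _ _ _ _ _).symm
  have h2 : Function.Injective (V'.ι.appLE V' ⊤ (fun x _ => x.2)).hom := by
    haveI : IsIso (V'.ι.appLE V' ⊤ (fun x _ => x.2)) := by
      have key : ∀ (O : (V' : Scheme.{u}).Opens) (h : O ≤ V'.ι ⁻¹ᵁ V'), O = V'.ι ⁻¹ᵁ V' →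
          IsIso (V'.ι.appLE V' O h) := by
        intro O h hO; subst hO
        rw [← Scheme.Hom.app_eq_appLE]
        exact V'.ι.isIso_app _ V'.opensRange_ι.ge
      exact key _ _ V'.ι_preimage_self.symm
    exact (ConcreteCategory.bijective_of_isIso _).1
  rw [h1, CommRingCat.hom_comp, ← Ideal.map_map]
  exact Ideal.map_eq_bot_iff_of_injective h2

theorem map_appLE_congr {Y S : Scheme.{u}} {V : S.Opens} (a : Ideal Γ(S, V)) {m m' : Y ⟶ S}
    (hm : m = m') {e : ⊤ ≤ m ⁻¹ᵁ V} (e' : ⊤ ≤ m' ⁻¹ᵁ V) (h : a.map (m.appLE V ⊤ e).hom = ⊥) :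
    a.map (m'.appLE V ⊤ e').hom = ⊥ := by
  subst hm; exact h

theorem isCompact_lt_var {X S : Scheme.{u}} (f : X ⟶ S) [IsProper f] [LocallyOfFinitePresentation f]
    (F : X.Modules) [F.IsQuasicoherent] (hF : CohB1.IsFP F) (hfl : FlatMod.IsFlatOver f F) (r : S → ℕ)
    (hr : IsLocallyConstant r) (V : S.Opens) (hV : IsAffineOpen V) :
    IsCompact ((V : Set S) ∩ {s | CohIII.fiberRank f F 0 s < r s + 1}) := by
  have hc : ∀ x : V, ∃ V₁ : S.affineOpens, (x : S) ∈ V₁.1 ∧ V₁.1 ≤ V ∧ ∀ s ∈ V₁.1, r s = r x := fun x => by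
    let L : S.Opens := ⟨r ⁻¹' {r x}, hr.isOpen_fiber _⟩
    obtain ⟨V₁, hV₁, hx, hle⟩ := exists_isAffineOpen_mem_and_subset (U := V ⊓ L) (x := (x : S)) ⟨x.2, rfl⟩
    exact ⟨⟨V₁, hV₁⟩, hx, fun s hs => (hle hs).1, fun s hs => (hle hs).2⟩
  choose V₁ hx hle hr' using hc
  obtain ⟨t, ht⟩ := hV.isCompact.elim_finite_subcover (fun x => ((V₁ x).1 : Set S)) (fun x => (V₁ x).1.2)
    (fun s hs => Set.mem_iUnion.2 ⟨⟨s, hs⟩, hx _⟩)
  have e : (V : Set S) ∩ {s | CohIII.fiberRank f F 0 s < r s + 1} =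
      ⋃ x ∈ t, ((V₁ x).1 : Set S) ∩ {s | CohIII.fiberRank f F 0 s < r x + 1} := by
    ext s
    constructor
    · rintro ⟨hs, hlt⟩
      obtain ⟨x, hxt, hsx⟩ := Set.mem_iUnion₂.1 (ht hs)
      exact Set.mem_iUnion₂.2 ⟨x, hxt, hsx, by
        show CohIII.fiberRank f F 0 s < r x + 1
        rw [← hr' x s hsx]; exact hlt⟩
    · intro h
      obtain ⟨x, -, hsx, hlt⟩ := Set.mem_iUnion₂.1 h
      exact ⟨hle x hsx, by show CohIII.fiberRank f F 0 s < r s + 1; rw [hr' x s hsx]; exact hlt⟩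
  rw [e]
  refine t.isCompact_biUnion fun x _ => ?_
  haveI : IsAffine ((V₁ x).1 : Scheme.{u}) := (V₁ x).2
  exact Chart.isCompact_lt f F hF hfl (r x) (V₁ x).1

theorem exists_immersion_var {X S : Scheme.{u}} (f : X ⟶ S) [IsProper f] [LocallyOfFinitePresentation f]
    (F : X.Modules) [F.IsQuasicoherent] (hF : CohB1.IsFP F) (hfl : FlatMod.IsFlatOver f F) (r : S → ℕ)
    (hr : IsLocallyConstant r) :
    ∃ (Z : Scheme.{u}) (ι : Z ⟶ S), IsImmersion ι ∧ LocallyOfFinitePresentation ι ∧ QuasiCompact ι ∧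
      ∀ (T : Scheme.{u}) (u : T ⟶ S),
        (∃ u' : T ⟶ Z, u' ≫ ι = u) ↔ ∀ t, Chart.Cond f F (r (u t)) u t := by
  have hWo : IsOpen {s | CohIII.fiberRank f F 0 s < r s + 1} := by
    rw [isOpen_iff_mem_nhds]
    intro s hs
    filter_upwards [(Main.isOpen_fiberRank_lt f F hF hfl 0 (r s + 1)).mem_nhds hs, (hr.eventually_eq s)]
      with z hz hz'
    show CohIII.fiberRank f F 0 z < r z + 1
    rw [hz']; exact hz
  let W : S.Opens := ⟨{s | CohIII.fiberRank f F 0 s < r s + 1}, hWo⟩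
  let ι₀ := {p : S.affineOpens × ℕ // p.1.1 ≤ W ∧ ∀ s ∈ p.1.1, r s = p.2}
  have hchart : ∀ i : ι₀, ∃ a : Ideal Γ(S, i.1.1.1), a.FG ∧ ∀ {T : Scheme.{u}} (u : T ⟶ S) (V' : T.Opens),
      IsAffineOpen V' → ∀ e : V' ≤ u ⁻¹ᵁ i.1.1.1,
      a.map (u.appLE i.1.1.1 V' e).hom = ⊥ ↔ ∀ t ∈ V', Chart.Cond f F (r (u t)) u t := fun i => by
    haveI : IsAffine (i.1.1.1 : Scheme.{u}) := i.1.1.2
    obtain ⟨a, ha, h⟩ := Chart.exists_ideal f F hF hfl i.1.2 i.1.1.1 fun s hs => by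
      rw [← i.2.2 s hs]; exact Nat.lt_succ_iff.1 (i.2.1 hs)
    refine ideal_congr (fun T u t => Chart.Cond f F (r (u t)) u t) i.1.1.1.ι_image_top ha
      fun {T} u V' _ e => (h u V' e).trans (forall₂_congr fun t ht => ?_)
    have hmem : u t ∈ i.1.1.1 := by
      have := e (V'.ι_image_top.ge ht)
      exact i.1.1.1.ι_image_top.le this
    rw [i.2.2 _ hmem]
  choose a ha hiff using hchart
  have hcrit : ∀ (i : ι₀) {U : Scheme.{u}} (k : U ⟶ i.1.1.1),
      (sheaf (a i)).comap k = ⊥ ↔ ∀ t, Chart.Cond f F (r ((k ≫ i.1.1.1.ι) t)) (k ≫ i.1.1.1.ι) t := fun i U k => by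
    have hle : ∀ (V' : U.Opens), V' ≤ (k ≫ i.1.1.1.ι) ⁻¹ᵁ i.1.1.1 := fun V' x _ => (k x).2
    have step : ∀ (V' : U.Opens), (sheaf (a i)).comap (V'.ι ≫ k) = ⊥ ↔
        (a i).map ((k ≫ i.1.1.1.ι).appLE i.1.1.1 V' (hle V')).hom = ⊥ := fun V' => by
      refine (comap_sheaf_iff i.1.1.2 (a i) _).trans ?_
      refine Iff.trans ?_ (comap_opens_appLE (k ≫ i.1.1.1.ι) (hle V') (a i))
      simp only [Category.assoc]
    constructor
    · intro h t
      obtain ⟨V', hV', htV', -⟩ := exists_isAffineOpen_mem_and_subset (U := ⊤) (x := t) trivial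
      refine (hiff i _ V' hV' (hle V')).1 ((step V').1 ?_) t htV'
      rw [Scheme.IdealSheafData.comap_comp, h, FreeRes.comap_bot]
    · intro h
      let 𝓥 : U.OpenCover := U.openCoverOfIsOpenCover (fun V' : U.affineOpens => V'.1)
        (TopologicalSpace.IsOpenCover.mk (iSup_affineOpens_eq_top U))
      refine Glue.ext 𝓥 fun V' => ?_
      show ((sheaf (a i)).comap k).comap V'.1.ι = _
      rw [← Scheme.IdealSheafData.comap_comp]
      exact ((step V'.1).2 ((hiff i _ V'.1 V'.2 (hle V'.1)).2 fun t _ => h t)).trans (FreeRes.comap_bot _).symm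
  have hWtop : TopologicalSpace.IsOpenCover (fun i : ι₀ => W.ι ⁻¹ᵁ i.1.1.1) :=
    TopologicalSpace.IsOpenCover.mk (eq_top_iff.2 fun w _ => by
      let L : S.Opens := ⟨r ⁻¹' {r (W.ι w)}, hr.isOpen_fiber _⟩
      obtain ⟨V, hV, hwV, hVW⟩ := exists_isAffineOpen_mem_and_subset (U := W ⊓ L) (x := W.ι w) ⟨w.2, rfl⟩
      exact Opens.mem_iSup.2 ⟨⟨(⟨V, hV⟩, r (W.ι w)), fun s hs => (hVW hs).1, fun s hs => (hVW hs).2⟩, hwV⟩)
  let 𝓤 : (W : Scheme.{u}).OpenCover := Scheme.Cover.mkOfCovers ι₀ (fun i => (i.1.1.1 : Scheme.{u}))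
    (fun i => S.homOfLE i.2.1) (fun w => by
      obtain ⟨i, hi⟩ := hWtop.exists_mem w
      exact ⟨i, ⟨W.ι w, hi⟩, Subtype.ext (by simp)⟩) fun i => inferInstance
  have hf : ∀ i, 𝓤.f i ≫ W.ι = i.1.1.1.ι := fun i => S.homOfLE_ι i.2.1
  let J : ∀ i, (𝓤.X i).IdealSheafData := fun i => sheaf (a i)
  have hJ : ∀ i j, (J i).comap (pullback.fst (𝓤.f i) (𝓤.f j)) =
      (J j).comap (pullback.snd (𝓤.f i) (𝓤.f j)) := fun i j => by
    refine FreeRes.eq_of_forall_iff fun {U} k => ?_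
    rw [← Scheme.IdealSheafData.comap_comp, ← Scheme.IdealSheafData.comap_comp]
    have e : (k ≫ pullback.fst (𝓤.f i) (𝓤.f j)) ≫ i.1.1.1.ι = (k ≫ pullback.snd (𝓤.f i) (𝓤.f j)) ≫ j.1.1.1.ι := by
      refine (congrArg ((k ≫ pullback.fst (𝓤.f i) (𝓤.f j)) ≫ ·) (hf i).symm).trans
        (Eq.trans ?_ (congrArg ((k ≫ pullback.snd (𝓤.f i) (𝓤.f j)) ≫ ·) (hf j)))
      simp only [Category.assoc, pullback.condition_assoc]
    refine (hcrit i (k ≫ pullback.fst (𝓤.f i) (𝓤.f j))).trans (Iff.trans ?_ (hcrit j (k ≫ pullback.snd (𝓤.f i) (𝓤.f j))).symm)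
    exact Iff.of_eq (congrArg (fun m : U ⟶ S => ∀ t, Chart.Cond f F (r (m t)) m t) e)
  let I := Glue.glue 𝓤 J hJ
  haveI hlfp : LocallyOfFinitePresentation I.subschemeι := by
    refine IsZariskiLocalAtTarget.of_openCover (P := @LocallyOfFinitePresentation) (𝒰 := 𝓤) fun i => ?_
    have sq := Basic.isPullback_comapMap (𝓤.f i) I
    haveI : LocallyOfFinitePresentation (I.comap (𝓤.f i)).subschemeι := by
      rw [Glue.comap_glue]
      exact Lim.IdealFP.lfp_subschemeι _ (isFG_sheaf i.1.1.2 (a i) (ha i))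
    show LocallyOfFinitePresentation (pullback.snd I.subschemeι (𝓤.f i))
    rw [← sq.isoPullback_inv_snd]
    exact inferInstance
  haveI hqc : QuasiCompact W.ι := by
    refine quasiCompact_iff_forall_isAffineOpen.2 fun V hV => ?_
    haveI : IsAffine (V : Scheme.{u}) := hV
    refine (Topology.IsInducing.isCompact_iff W.ι.isOpenEmbedding.isInducing).2 ?_
    convert isCompact_lt_var f F hF hfl r hr V hV using 1
    ext s
    constructor
    · rintro ⟨w, hw, rfl⟩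
      exact ⟨hw, w.2⟩
    · rintro ⟨hs, hsW⟩
      exact ⟨⟨s, hsW⟩, hs, rfl⟩
  refine ⟨I.subscheme, I.subschemeι ≫ W.ι, inferInstance, inferInstance, inferInstance, fun T u => ?_⟩
  constructor
  · rintro ⟨u', rfl⟩ t
    obtain ⟨i, y, hy⟩ := 𝓤.exists_eq (I.subschemeι (u' t))
    let u₀ := u' ≫ I.subschemeι
    have hu : u' ≫ I.subschemeι ≫ W.ι = u₀ ≫ W.ι := (Category.assoc _ _ _).symm
    rw [hu]
    have htV : (u₀ ≫ W.ι) t ∈ i.1.1.1 := by
      show W.ι (I.subschemeι (u' t)) ∈ i.1.1.1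
      rw [← hy]
      show (𝓤.f i ≫ W.ι) y ∈ i.1.1.1
      rw [hf i]
      exact y.2
    obtain ⟨V', hV', htV', hle⟩ := exists_isAffineOpen_mem_and_subset (U := (u₀ ≫ W.ι) ⁻¹ᵁ i.1.1.1) (x := t) htV
    let k : (V' : Scheme.{u}) ⟶ 𝓤.X i := (u₀ ≫ W.ι).resLE i.1.1.1 V' hle
    have hk : k ≫ 𝓤.f i = V'.ι ≫ u₀ := (cancel_mono W.ι).1
      (((Category.assoc _ _ _).trans (congrArg (k ≫ ·) (hf i))).trans
        ((Scheme.Hom.resLE_comp_ι _ _).trans (Category.assoc _ _ _).symm))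
    have hb : (sheaf (a i)).comap k = ⊥ := by
      show (J i).comap k = ⊥
      rw [← Glue.comap_glue 𝓤 J hJ i, ← Scheme.IdealSheafData.comap_comp, hk,
        Scheme.IdealSheafData.comap_comp, (Basic.exists_lift_iff u₀ I).1 ⟨u', rfl⟩, FreeRes.comap_bot]
    refine (hiff i _ V' hV' hle).1 ((comap_opens_appLE (u₀ ≫ W.ι) hle (a i)).1 ?_) t htV'
    exact map_appLE_congr (a i) (Scheme.Hom.resLE_comp_ι _ _) _
      ((comap_sheaf_iff i.1.1.2 (a i) k).1 hb)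
  · intro h
    let u₀ : T ⟶ W := IsOpenImmersion.lift W.ι u (by
      rintro _ ⟨t, rfl⟩
      rw [Scheme.Opens.range_ι]
      show CohIII.fiberRank f F 0 (u t) < r (u t) + 1
      rw [(h t).2]; exact Nat.lt_succ_self _)
    have hu₀ : u₀ ≫ W.ι = u := IsOpenImmersion.lift_fac _ _ _
    suffices hb : I.comap u₀ = ⊥ by
      obtain ⟨u', hu'⟩ := (Basic.exists_lift_iff u₀ I).2 hb
      exact ⟨u', by rw [← Category.assoc, hu', hu₀]⟩
    let P₀ := {p : ι₀ × T.affineOpens // p.2.1 ≤ u ⁻¹ᵁ p.1.1.1.1}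
    let 𝓥 : T.OpenCover := T.openCoverOfIsOpenCover (fun p : P₀ => p.1.2.1)
      (TopologicalSpace.IsOpenCover.mk (eq_top_iff.2 fun t _ => by
        obtain ⟨i, hi⟩ := hWtop.exists_mem (u₀ t)
        have ht : u t ∈ i.1.1.1 := by rw [← hu₀]; exact hi
        obtain ⟨V', hV', htV', hle⟩ := exists_isAffineOpen_mem_and_subset (U := u ⁻¹ᵁ i.1.1.1) (x := t) ht
        exact Opens.mem_iSup.2 ⟨⟨(i, ⟨V', hV'⟩), hle⟩, htV'⟩))
    refine Glue.ext 𝓥 fun p => ?_
    obtain ⟨⟨i, V'⟩, hle⟩ := p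
    show (I.comap u₀).comap V'.1.ι = (⊥ : T.IdealSheafData).comap _
    let k : (V'.1 : Scheme.{u}) ⟶ 𝓤.X i := u.resLE i.1.1.1 V'.1 hle
    have hk : k ≫ 𝓤.f i = V'.1.ι ≫ u₀ := (cancel_mono W.ι).1
      (((Category.assoc _ _ _).trans (congrArg (k ≫ ·) (hf i))).trans
        ((Scheme.Hom.resLE_comp_ι _ _).trans
          ((congrArg (V'.1.ι ≫ ·) hu₀.symm).trans (Category.assoc _ _ _).symm)))
    rw [FreeRes.comap_bot, ← Scheme.IdealSheafData.comap_comp, ← hk, Scheme.IdealSheafData.comap_comp,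
      Glue.comap_glue]
    refine (comap_sheaf_iff i.1.1.2 (a i) k).2 ?_
    exact map_appLE_congr (a i) (Scheme.Hom.resLE_comp_ι _ _).symm _
      ((comap_opens_appLE u hle (a i)).2 ((hiff i u V'.1 V'.2 hle).2 fun t _ => h t))

theorem exists_immersion {X S : Scheme.{u}} (f : X ⟶ S) [IsProper f] [LocallyOfFinitePresentation f]
    (F : X.Modules) [F.IsQuasicoherent] (hF : CohB1.IsFP F) (hfl : FlatMod.IsFlatOver f F) (r : ℕ) :
    ∃ (Z : Scheme.{u}) (ι : Z ⟶ S), IsImmersion ι ∧ LocallyOfFinitePresentation ι ∧ QuasiCompact ι ∧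
      ∀ (T : Scheme.{u}) (u : T ⟶ S),
        (∃ u' : T ⟶ Z, u' ≫ ι = u) ↔ ∀ t, Chart.Cond f F r u t :=
  exists_immersion_var f F hF hfl (fun _ => r) (IsLocallyConstant.const r)

end Groth.Agent.H54.RankLocus.Global

namespace Groth.Agent.H54.RankLocus.Global

variable {X S : Scheme.{u}} (f : X ⟶ S) [IsProper f] [LocallyOfFinitePresentation f] (F : X.Modules)
  [F.IsQuasicoherent]

theorem isFinLocFreeOfRank_congr {T : Scheme.{u}} {M N : T.Modules} (i : M ≅ N) {r : ℕ}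
    (h : FlatMod.IsFinLocFreeOfRank r N) : FlatMod.IsFinLocFreeOfRank r M := fun x => by
  obtain ⟨U, hx, ⟨k⟩⟩ := h x
  exact ⟨U, hx, ⟨(Scheme.Modules.restrictFunctor U.ι).mapIso i ≪≫ k⟩⟩

/-- The condition says that the direct image is locally free of rank `r` with base change. -/
theorem cond_iff_sq (hF : CohB1.IsFP F) (hfl : FlatMod.IsFlatOver f F) (r : ℕ) {X' T : Scheme.{u}} (u : T ⟶ S)
    (g' : X' ⟶ X) (f' : X' ⟶ T) (h : IsPullback g' f' f u) :
    (∀ t, Chart.Cond f F r u t) ↔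
      (FlatMod.IsFinLocFreeOfRank r ((Scheme.Modules.pushforward f').obj
          ((Scheme.Modules.pullback g').obj F)) ∧
        ∀ ⦃X'' T' : Scheme.{u}⦄ (v' : X'' ⟶ X') (f'' : X'' ⟶ T') (u' : T' ⟶ T)
          (h' : IsPullback v' f'' f' u'),
          IsIso (CohBC.bc0 f' u' f'' v' h'.w ((Scheme.Modules.pullback g').obj F))) := by
  haveI : IsProper f' := MorphismProperty.of_isPullback h ‹_›
  haveI : LocallyOfFinitePresentation f' := MorphismProperty.of_isPullback h ‹_›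
  let G := (Scheme.Modules.pullback g').obj F
  have hG : CohB1.IsFP G := H47.FlatLimit.isFP_pullback g' F hF
  have hGfl : FlatMod.IsFlatOver f' G := fun x =>
    Flat55.FlatOverAt.isFlatOverAt_baseChange f f' g' u h F x (hfl _)
  have key : (∀ t, Main.FibSurj f' G t) → ∀ t, ∃ U : T.Opens, t ∈ U ∧
      Nonempty (((Coh.Rpush f' 0).obj G).restrict U.ι ≅
        FlatMod.freeMod (↑U) (CohIII.fiberRank f F 0 (u t))) := fun hs t => by
    obtain ⟨V', hV', htV', -⟩ := exists_isAffineOpen_mem_and_subset (U := ⊤) (x := t) trivial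
    haveI : IsAffine (V' : Scheme.{u}) := hV'
    obtain ⟨P, hP, he, -, hq⟩ := Main.exists_of_fibSurj f' G hG hGfl V' fun y _ => hs y
    obtain ⟨e⟩ := he 0
    obtain ⟨U, htU, hi⟩ := Main.exists_free_nhd f' G 0 hP e (hP.flat_Q_nonneg _ (by simp))
      (by simpa using hq) htV'
    rw [FieldPoint.fiberRank_baseChange f F hF hfl u g' f' h 0 t] at hi
    exact ⟨U, htU, hi⟩
  obtain ⟨z⟩ := Main.nonempty_zeroIso f' G
  constructor
  · intro hc
    have hs : ∀ t, Main.FibSurj f' G t :=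
      Chart.fibSurj_congr f F hF hfl u (IsPullback.of_hasPullback f u) h fun t => (hc t).1
    refine ⟨isFinLocFreeOfRank_congr z.symm fun t => ?_, fun X'' T' v' f'' u' hsq =>
      Main.isIso_bc0_of_fibSurj f' G hG hGfl u' v' f'' hsq fun t => hs _⟩
    obtain ⟨U, htU, ⟨i⟩⟩ := key hs t
    rw [(hc t).2] at i
    exact ⟨U, htU, ⟨i⟩⟩
  · rintro ⟨hfree, hbc⟩
    have hs : ∀ t, Main.FibSurj f' G t := fun t => by
      haveI := hbc (f'.fiberι t) (f'.fiberToSpecResidueField t) (T.fromSpecResidueField t)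
        (IsPullback.of_hasPullback f' (T.fromSpecResidueField t))
      exact Main.fibSurj_of_epi f' G t inferInstance
    intro t
    obtain ⟨U, htU, ⟨i⟩⟩ := key hs t
    exact ⟨Chart.fibSurj_congr f F hF hfl u h (IsPullback.of_hasPullback f u) hs t, Locus.rank_eq (isFinLocFreeOfRank_congr z hfree) htU i⟩

theorem main (hF : CohB1.IsFP F) (hfl : FlatMod.IsFlatOver f F) (r : ℕ) :
    ∃ (Z : Scheme.{u}) (ι : Z ⟶ S), IsImmersion ι ∧ LocallyOfFinitePresentation ι ∧ QuasiCompact ι ∧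
      (∀ (T : Scheme.{u}) (u : T ⟶ S), (∃ u' : T ⟶ Z, u' ≫ ι = u) ↔
        (FlatMod.IsFinLocFreeOfRank r ((Scheme.Modules.pushforward (pullback.snd f u)).obj
            ((Scheme.Modules.pullback (pullback.fst f u)).obj F)) ∧
          ∀ ⦃X'' T' : Scheme.{u}⦄ (v' : X'' ⟶ pullback f u) (f'' : X'' ⟶ T') (u' : T' ⟶ T)
            (h : IsPullback v' f'' (pullback.snd f u) u'),
            IsIso (CohBC.bc0 (pullback.snd f u) u' f'' v' h.w
              ((Scheme.Modules.pullback (pullback.fst f u)).obj F)))) ∧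
      Set.range ι = {s : S | CohIII.fiberRank f F 0 s = r} := by
  obtain ⟨Z, ι, h1, h2, h3, huniv⟩ := exists_immersion f F hF hfl r
  refine ⟨Z, ι, h1, h2, h3, fun T u => (huniv T u).trans (cond_iff_sq f F hF hfl r u _ _ (IsPullback.of_hasPullback f u)), ?_⟩
  ext s
  constructor
  · rintro ⟨z, rfl⟩
    exact ((huniv Z ι).1 ⟨𝟙 Z, Category.id_comp ι⟩ z).2
  · intro hs
    obtain ⟨u', hu'⟩ := (huniv _ (S.fromSpecResidueField s)).2
      (Chart.cond_fromSpecResidueField f F hF hfl r s hs)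
    refine ⟨u' (IsLocalRing.closedPoint _), ?_⟩
    exact (congrArg (fun m : Spec (S.residueField s) ⟶ S => m (IsLocalRing.closedPoint _)) hu').trans
      (Scheme.fromSpecResidueField_apply _ _)

end Groth.Agent.H54.RankLocus.Global
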